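import Mathlib
import Cfsg.Agent.TID.Basic
import Cfsg.Agent.S2187

/-!
# S4622 (project TID): the row `KBig` (helper62)
-/

set_option autoImplicit false
set_option maxHeartbeats 400000

namespace Cfsg.Agent.TID.G

open Cfsg Subgroup

universe u

theorem conj_inj {X : Type u} [Group X] {S : Subgroup X} [S.Normal] (h : Soc S) :
    Function.Injective (MulAut.conjNormal : X →* MulAut S) := by
  rw [injective_iff_map_eq_one]
  intro x hx
  have h1 : x ∈ Cz S := by
    refine mem_Cz.2 fun s hs => ?_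
    have h2 : x * s * x⁻¹ = s := congrArg (fun φ : MulAut S => ((φ ⟨s, hs⟩ : S) : X)) hx
    exact (mul_inv_eq_iff_eq_mul.1 h2).symm
  rwa [show Cz S = ⊥ from h.cent, mem_bot] at h1

theorem kBig : KBig.{u} := by
  intro p hp X _ _ S D h ⟨hp2, r, hr, hpr, hb, hS⟩
  exfalso
  have := h.soc.normal
  have : Fact r.Prime := ⟨hr⟩
  obtain ⟨V, hVD, hrk⟩ := h.loc.rk
  obtain ⟨E, hE1, hE2, hE3⟩ := (rk2_self hrk.1 hrk.2).map (conj_inj h.soc)
  have h1 := Cfsg.Agent.S2187.result r hS p hp2 hpr hb E hE2 hE3.ge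
  apply h.not_le
  have h2 : (⊤ : Subgroup S) ≤ (Nz D).subgroupOf S := by
    rw [← h1, closure_le]
    rintro g ⟨F, hF1, hF2, hF3⟩
    have h3 : F ≠ ⊥ := by
      rintro rfl
      rw [bot_subgroupOf, index_bot, hE3] at hF2
      have h4 := hp.out.one_lt
      nlinarith
    obtain ⟨φ, hφ, hφ1⟩ := F.bot_or_exists_ne_one.resolve_left h3
    obtain ⟨v, hv, rfl⟩ := hE1 (hF1 hφ)
    have hv1 : v ≠ 1 := by
      rintro rfl
      exact hφ1 (map_one _)
    have h4 : v * g * v⁻¹ = g := congrArg Subtype.val (hF3 _ hφ)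
    exact h.loc.ti.cent_le (hVD hv) hv1 (mem_C1.2 (mul_inv_eq_iff_eq_mul.1 h4))
  intro s hs
  exact h2 (mem_top (⟨s, hs⟩ : S))

end Cfsg.Agent.TID.G
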