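import Cfsg.Agent.TID.Basic
import Cfsg.Agent.H476.TI.RedFill

/-!
# S4622 (project TID): the list of socles for a TI Sylow subgroup (helper62)

`sylList : SylList`, from the classification of strongly `p`-embedded subgroups (`H476.TI.goal20`, `StrongEmb.Strong.result`).
-/

set_option autoImplicit false
set_option maxHeartbeats 400000

namespace Cfsg.Agent.TID.G

open Cfsg Subgroup
open Cfsg.Agent.H476.TI Cfsg.Agent.H666.TI

universe u

theorem sq_of_le {X : Type u} [Group X] [Finite X] {p : ℕ} [hp : Fact p.Prime] {S D : Subgroup X} (h : AS p S D)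
    (hDS : D ≤ S) {N m : ℕ} (hc : Nat.card S = N) (hN : N = p ^ 2 * m) (hm : ¬ p ∣ m) : Nat.card D = p ^ 2 := by
  refine Nat.dvd_antisymm ?_ h.loc.rk.sq_dvd
  have h1 := card_dvd_of_le hDS
  rw [hc, hN] at h1
  obtain ⟨k, hk⟩ := IsPGroup.iff_card.1 h.loc.pgrp
  refine Nat.Coprime.dvd_of_dvd_mul_right ?_ h1
  rw [hk]
  exact Nat.Coprime.pow_left _ ((Nat.Prime.coprime_iff_not_dvd hp.out).2 hm)

/-- **SylList** -/
theorem sylList : SylList.{u} := by
  intro p hp X _ _ S D h hD
  have hSn := h.soc.normal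
  have hSs := h.soc.simple
  obtain ⟨P, rfl⟩ : ∃ P : Sylow p X, (P : Subgroup X) = D := ⟨h.loc.pgrp.toSylow hD, rfl⟩
  have hT : IsTI p X := H666.Link.isTI_of_conj P h.loc.ti
  have hL := h.dvd
  have hna := h.soc.nonab
  have hC := h.soc.cent
  have hTL : IsTI p S := hT.subgroup S
  obtain ⟨R⟩ : Nonempty (Sylow p S) := inferInstance
  have hPd := card_dvd' hT S hL P
  have hS1 := sylow_ne_one S hna hL
  have hS0 : 0 < Nat.card (Sylow p S) := Nat.card_pos
  have hfit : Fit p S → (P : Subgroup X) ≤ S := fun hf => by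
    refine le_of_card hT S hL P R ?_
    rw [hf.card_sylow hTL R, Nat.add_sub_cancel_left] at hPd
    exact Nat.le_of_dvd Nat.card_pos hPd
  have hR1 : (R : Subgroup S) ≠ ⊥ := by
    intro h1
    have h2 := R.dvd_card_of_dvd_card hL
    rw [h1, Subgroup.card_bot] at h2
    exact hp.out.one_lt.ne' (Nat.dvd_one.1 h2)
  by_cases hp2 : p = 2
  · subst hp2
    have hN : normalizer ((R : Subgroup S) : Set S) ≠ ⊤ := by
      intro h1
      apply hS1
      have h2 : Nat.card (Sylow 2 S) = (normalizer ((R : Subgroup S) : Set S)).index := R.card_eq_index_normalizer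
      rw [h2, h1, Subgroup.index_top]
    right
    rcases StrongEmb.Strong.result (H666.Link.exists_ne_comm hna) _ (strongly hTL R hR1 hN) with
      ⟨F, _, _, ⟨n, hn, hF⟩, ⟨e⟩⟩ | ⟨F, i1, i2, m, hm, hF, ⟨e⟩⟩ | ⟨F, _, _, n, hn, hF, ⟨e⟩⟩
    · exact .l2 (hfit ((fit_psl2 (by omega) hF).congr e.toEquiv)) F (charP_of_card_eq_prime_pow hF) ⟨e⟩
    · exact .sz (hfit ((fit_sz hm hF).congr e.toEquiv)) rfl ⟨F, i1, i2, m, hm, hF, ⟨e⟩⟩
    · exact .u3 (hfit ((fit_psu3 (by omega) hF).congr e.toEquiv)) F n (by omega) hF ⟨e⟩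
  have hnc := h.loc.rk.not_cyclic
  have hN : normalizer ((P : Subgroup X) : Set X) ≠ ⊤ := fun h1 => h.not_le (by
    change S ≤ normalizer ((P : Subgroup X) : Set X)
    rw [h1]
    exact le_top)
  obtain ⟨k, hk⟩ := IsPGroup.iff_card.1 P.isPGroup'
  rcases goal20 X S hSs hna hC p hp2 _ (H666.Link.stronglyP hT P h.loc.rk.ne_bot hN) with h1 | hl
  · exact absurd (h1 P) hnc
  rcases hl with ⟨F, _, _, hF, ⟨e⟩⟩ | ⟨F, _, _, n, hn, hF, ⟨e⟩⟩ | ⟨rfl, K, i1, i2, m, hm, hK, ⟨e⟩⟩ | ⟨⟨e⟩⟩ |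
    ⟨rfl, ⟨F, i1, i2, hF, ⟨e⟩⟩ | ⟨F, _, _, hF, ⟨e⟩⟩ | h11⟩ | ⟨rfl, ht | hsz | hm | hf⟩ | ⟨rfl, hj⟩
  · obtain ⟨n, -, hn⟩ := FiniteField.card F p
    exact Or.inr (.l2 (hfit ((fit_psl2 (n := n) n.pos hn).congr e.toEquiv)) F hF ⟨e⟩)
  · have hF' : Fintype.card F = (p ^ n) ^ 2 := by rw [hF, ← pow_mul, mul_comm]
    exact Or.inr (.u3 (hfit ((fit_psu3 hn hF').congr e.toEquiv)) F n hn hF' ⟨e⟩)
  · exact Or.inr (.ree (hfit ((fit_ree hK).congr e.toEquiv)) rfl ⟨K, i1, i2, m, hm, hK, ⟨e⟩⟩)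
  · rcases Nat.lt_or_ge p 4 with h4 | h4
    · left
      have h3 : p = 3 := by
        have := hp.out.two_le
        omega
      subst h3
      refine sq_of_le h (hfit (fit_a6.congr e.toEquiv)) (N := 360) (m := 40) ?_ (by norm_num) (by norm_num)
      have h3 : 2 * Nat.card (alternatingGroup (Fin 6)) = Nat.card (Equiv.Perm (Fin 6)) := by
        rw [Nat.card_eq_fintype_card, Nat.card_eq_fintype_card]
        exact two_mul_card_alternatingGroup
      rw [Nat.card_eq_fintype_card (α := Equiv.Perm (Fin 6)), Fintype.card_perm, Fintype.card_fin] at h3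
      have h4 : Nat.factorial 6 = 720 := rfl
      have h5 : Nat.card S = Nat.card (alternatingGroup (Fin 6)) := Nat.card_congr e.toEquiv
      omega
    · exfalso
      have hPL : (P : Subgroup X) ≤ S := le_of_oddIn hp2 S hC ((oddIn_alt (by omega)).congr e) P
      rcases H666.AltRow.row_alt hp2 ⟨2 * p, by omega, ⟨e⟩⟩ hTL
        (fun hc => not_isCyclic hT S hL P hnc hPL R (hc R)) with h5 | h5
      · exact H666.Link.not_noSP hna hTL R.isPGroup' hR1 h5
      · omega
  · -- `PSL₃(4)`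
    have hc : Nat.card S = 20160 := by
      rw [Nat.card_congr e.toEquiv]
      have h := S0243.result (F := F) hF 3 (by norm_num)
      rw [Fin.prod_univ_three] at h
      norm_num at h
      omega
    have hR := dvd_sylow (p := 3) (k := 2) (m := 2240) hc (by norm_num) (by norm_num) R
    have hPL : (P : Subgroup X) ≤ S := by
      refine le_of_card hT S hL P R ?_
      rw [hR.1, hk]
      apply Nat.pow_le_pow_right (by norm_num)
      by_contra hcon
      refine H476.PU.l34 (K := S) (Dvd.dvd.trans ?_ hPd) hF e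
      rw [hk]
      exact pow_dvd_pow 3 (by omega : 3 ≤ k)
    exact Or.inl (sq_of_le h hPL (m := 2240) hc (by norm_num) (by norm_num))
  · -- `PSL₂(8)`
    by_cases hPL : (P : Subgroup X) ≤ S
    · have hc : Nat.card S = 504 := by
        have h1 := ClassicalGeometry.PSL2Basic.card_PSL2_gcd (F := F)
        rw [hF] at h1
        rw [Nat.card_congr e.toEquiv]
        norm_num at h1
        omega
      exact Or.inl (sq_of_le h hPL (m := 56) hc (by norm_num) (by norm_num))
    · exact Or.inr (.l28 hPL rfl F hF ⟨e⟩)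
  · -- `M₁₁`
    exact Or.inl (sq_of_le h (le_of_oddIn hp2 S hC (oddIn_m11 h11) P) (m := 880) (UGT.End.MEleven.isM11 h11).2
      (by norm_num) (by norm_num))
  · -- the Tits group
    have hc : Nat.card S = 17971200 := by
      obtain ⟨e⟩ := ht
      rw [Nat.card_congr e.toEquiv, S1074.result.2.2.2]
      norm_num
    have hR := dvd_sylow (p := 5) (k := 2) (m := 718848) hc (by norm_num) (by norm_num) R
    have hPL : (P : Subgroup X) ≤ S := by
      refine le_of_card hT S hL P R ?_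
      rw [hR.1, hk]
      apply Nat.pow_le_pow_right (by norm_num)
      by_contra hcon
      refine hS1 (tits_arith hR.2 (Dvd.dvd.trans ?_ hPd) hS0)
      rw [hk]
      exact pow_dvd_pow 5 (by omega : 3 ≤ k)
    exact Or.inl (sq_of_le h hPL (m := 718848) hc (by norm_num) (by norm_num))
  · -- `Sz(32)`
    obtain ⟨F, _, _, hF, ⟨e⟩⟩ := hsz
    by_cases hPL : (P : Subgroup X) ≤ S
    · exfalso
      have hF' : Fintype.card F = 2 ^ (2 * 2 + 1) := by rw [hF]; norm_num
      exact not_isCyclic hT S hL P hnc hPL R (H469.sylow_congr e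
        (H67.SzOdd.sylow_cyclic (F := F) (m := 2) (by norm_num) hF' (p := 5) (by norm_num)) R)
    · exact Or.inr (.sz32 hPL rfl F hF ⟨e⟩)
  · -- `McL`
    exact Or.inr (.mcl (le_of_oddIn hp2 S hC (oddIn_mcl hm) P) rfl hm)
  · -- `Fi₂₂`
    have hc : Nat.card S = 64561751654400 := by
      obtain ⟨e⟩ := hf
      rw [Nat.card_congr e.toEquiv, S1696.result.2]
    exact Or.inl (sq_of_le h (le_of_oddIn hp2 S hC (oddIn_fi22 hf) P) (m := 2582470066176) hc (by norm_num)
      (by norm_num))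
  · -- `J₄`
    exact Or.inr (.j4 (le_of_oddIn hp2 S hC (oddIn_j4 hj) P) rfl hj)

end Cfsg.Agent.TID.G
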