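import Mathlib
import Cfsg.Agent.TID.Basic
import Cfsg.Agent.TID.Box.Quot
import Cfsg.Agent.TID.Red.Main
import Cfsg.Agent.Blocks.SylowIn

/-!
# S4622 (project TID): the box `Struct` (helper62)
-/

set_option autoImplicit false
set_option linter.unusedSectionVars false
set_option maxHeartbeats 400000

namespace Cfsg.Agent.TID.G

open Cfsg Subgroup
open Cfsg.Agent.SignalizersComponents.Components
open scoped commutatorElement Pointwise

universe u

variable {G : Type u} [Group G] [Finite G] {p : ℕ} [hp : Fact p.Prime] {D L : Subgroup G}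

/-- the product `L C(L)` -/
def LC (L : Subgroup G) : Subgroup G where
  carrier := {x | ∃ l ∈ L, l⁻¹ * x ∈ Cz L}
  one_mem' := ⟨1, one_mem _, by rw [inv_one, one_mul]; exact one_mem _⟩
  mul_mem' := by
    rintro x y ⟨l, hl, hx⟩ ⟨m, hm, hy⟩
    refine ⟨l * m, mul_mem hl hm, ?_⟩
    have h1 := mem_Cz.1 hx m hm
    have h2 : (l * m)⁻¹ * (x * y) = (l⁻¹ * x) * (m⁻¹ * y) := by
      calc (l * m)⁻¹ * (x * y) = m⁻¹ * ((l⁻¹ * x) * m) * (m⁻¹ * y) := by group
        _ = _ := by rw [← h1]; group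
    rw [h2]
    exact mul_mem hx hy
  inv_mem' := by
    rintro x ⟨l, hl, hx⟩
    refine ⟨l⁻¹, inv_mem hl, ?_⟩
    have h1 := mem_Cz.1 (inv_mem hx) l hl
    have h2 : l⁻¹⁻¹ * x⁻¹ = (l⁻¹ * x)⁻¹ := by
      calc l⁻¹⁻¹ * x⁻¹ = (l * (l⁻¹ * x)⁻¹) * l⁻¹ := by group
        _ = _ := by rw [h1]; group
    rw [h2]
    exact inv_mem hx

theorem layer_le_LC (hL : IsComponent L) : layer G ≤ LC L := by
  rw [layer_le_iff]
  intro K hK x hx
  by_cases h : K = L
  · subst h
    exact ⟨x, hx, by rw [inv_mul_cancel]; exact one_mem _⟩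
  · exact ⟨1, one_mem _, by rw [inv_one, one_mul]; exact component_le_centralizer_of_ne hK hL h hx⟩

/-- a `p`-element of `L C(L)` -/
theorem exists_pelt {x : G} {k : ℕ} (hk : x ^ p ^ k = 1) (hx : x ∈ LC L) :
    ∃ l ∈ L, (∃ j, l ^ p ^ j = 1) ∧ l⁻¹ * x ∈ Cz L := by
  obtain ⟨l, hl, hc⟩ := hx
  obtain ⟨j, m, hm, hj⟩ := Nat.exists_eq_pow_mul_and_not_dvd (orderOf_pos l).ne' p hp.out.ne_one
  have h1 : m.Coprime (orderOf x) :=
    Nat.Coprime.coprime_dvd_right (orderOf_dvd_of_pow_eq_one hk)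
      (Nat.Coprime.pow_right _ ((Nat.Prime.coprime_iff_not_dvd hp.out).2 hm).symm)
  obtain ⟨b, hb⟩ := exists_pow_eq_self_of_coprime h1
  have h2 : Commute l (l⁻¹ * x) := mem_Cz.1 hc l hl
  refine ⟨l ^ (m * b), pow_mem hl _, ⟨j, ?_⟩, ?_⟩
  · rw [← pow_mul, show m * b * p ^ j = p ^ j * m * b by ring, ← hj, pow_mul, pow_orderOf_eq_one, one_pow]
  · have h3 : x = l ^ (m * b) * (l⁻¹ * x) ^ (m * b) := by
      rw [← h2.mul_pow, mul_inv_cancel_left, pow_mul, hb]
    have h4 : (l ^ (m * b))⁻¹ * x = (l⁻¹ * x) ^ (m * b) := by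
      conv_lhs => rw [h3]
      rw [inv_mul_cancel_left]
    rw [h4]
    exact pow_mem hc _

theorem le_pCore_map {K Q : Subgroup G} (hQK : Q ≤ K) (hn : K ≤ Nz Q) (hQ : IsPGroup p Q) :
    Q ≤ (pCore p K).map K.subtype := fun x hx =>
  ⟨⟨x, hQK hx⟩, Lib.Cores.le_pCore (N := Q.subgroupOf K) (normal_subgroupOf_of_le_normalizer hn) hQ.comap_subtype hx, rfl⟩

/-- `O_p(K') ≤ D` for `K'` normal in `K` and `K` normalized by `N(D)` -/
theorem le_of_normal_two (h : Loc p D) {K K' Q : Subgroup G} (hK : Nz D ≤ Nz K) (h1 : K' ≤ K) (h2 : K ≤ Nz K')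
    (hQK : Q ≤ K') (hn : K' ≤ Nz Q) (hQ : IsPGroup p Q) : Q ≤ D := by
  have hch := Lib.Cores.pCore_characteristic (G := K') p
  exact (le_pCore_map hQK hn hQ).trans (h.le_of_normal hK ((map_subtype_le _).trans h1) (h2.trans (Nz_le_Nz_char _))
    ((Lib.Cores.pCore_isPGroup p).map _))

/-- the centre of a component has order prime to `p` -/
theorem center_not_dvd (hO : pCore p G = ⊥) (hL : IsComponent L) : ¬ p ∣ Nat.card ↥(L ⊓ Cz L) := by
  intro hd
  obtain ⟨z, hz⟩ := exists_prime_orderOf_dvd_card' p hd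
  have h1 : zpowers (z : G) ≤ Cz (layer G) := by
    refine le_Cz_comm ?_
    rw [layer_le_iff]
    intro K hK
    refine le_Cz_comm ?_
    rw [zpowers_le]
    by_cases h3 : K = L
    · rw [h3]; exact z.2.2
    · exact le_Cz_comm (component_le_centralizer_of_ne hK hL h3) z.2.1
  have h2 : IsPGroup p (zpowers (z : G)) := by
    refine IsPGroup.of_card (n := 1) ?_
    rw [Nat.card_zpowers, orderOf_coe, hz, pow_one]
  have h3 := Lib.GenFitting.le_pCore_of_normal_in_normal (layer_normal G)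
    (zpowers_le.2 (component_le_layer hL z.2.1)) ((le_Cz_comm h1).trans (centralizer_le_normalizer _)) h2
  rw [hO] at h3
  have h4 : (z : G) = 1 := mem_bot.1 (h3 (mem_zpowers _))
  rw [← orderOf_coe, h4, orderOf_one] at hz
  exact hp.out.ne_one hz.symm

/-- `D` acts faithfully on the layer -/
theorem exists_comp (hO : pCore p G = ⊥) (h : Loc p D) {d : G} (hd : d ∈ D) (hd1 : d ≠ 1) :
    ∃ L : Subgroup G, IsComponent L ∧ d ∉ Cz L := by
  by_contra hcon
  push Not at hcon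
  obtain ⟨k, hk⟩ := pow_eq_one_of_mem h.pgrp hd
  have hn := Lib.Cores.pPrimeCore_normal (G := G) p
  have h1 := mem_pCore_of_cent hk (by rw [hO]; exact mem_Cz.2 fun y hy => by rw [mem_bot.1 hy, one_mul, mul_one])
    (le_Cz_comm (h.cent_of_coprime (not_dvd_core G) (le_Nz_normal _ _)) hd) (by
      have h2 : layer G ≤ C1 d := by
        rw [layer_le_iff]
        exact fun K hK y hy => mem_C1.2 (mem_Cz.1 (hcon K hK) y hy).symm
      exact mem_Cz.2 fun y hy => (mem_C1.1 (h2 hy)).symm)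
  rw [hO] at h1
  exact hd1 (mem_bot.1 h1)

/-- if `D` meets no component then it meets the layer trivially -/
theorem inf_layer (hO : pCore p G = ⊥) (h : Loc p D) (h0 : ∀ L : Subgroup G, IsComponent L → D ⊓ L = ⊥) :
    D ⊓ layer G = ⊥ := by
  have hEn := layer_normal G
  rw [eq_bot_iff]
  intro d hd
  rw [mem_bot]
  by_contra hd1
  obtain ⟨L, hL, hdL⟩ := exists_comp hO h hd.1 hd1
  obtain ⟨k, hk⟩ := pow_eq_one_of_mem h.pgrp hd.1
  obtain ⟨l, hl, ⟨j, hj⟩, hc⟩ := exists_pelt hk (layer_le_LC hL hd.2)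
  have hEL : layer G ≤ Nz L := layer_le_normalizer_component hL
  -- the projection
  let T : Subgroup G :=
    { carrier := {x | x ∈ L ∧ ∃ e ∈ D ⊓ layer G, x⁻¹ * e ∈ Cz L}
      one_mem' := ⟨one_mem _, 1, one_mem _, by rw [inv_one, one_mul]; exact one_mem _⟩
      mul_mem' := by
        rintro x y ⟨hx, e, he, hxe⟩ ⟨hy, f, hf, hyf⟩
        refine ⟨mul_mem hx hy, e * f, mul_mem he hf, ?_⟩
        have h1 := mem_Cz.1 hxe y hy
        have h2 : (x * y)⁻¹ * (e * f) = (x⁻¹ * e) * (y⁻¹ * f) := by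
          calc (x * y)⁻¹ * (e * f) = y⁻¹ * ((x⁻¹ * e) * y) * (y⁻¹ * f) := by group
            _ = _ := by rw [← h1]; group
        rw [h2]
        exact mul_mem hxe hyf
      inv_mem' := by
        rintro x ⟨hx, e, he, hxe⟩
        refine ⟨inv_mem hx, e⁻¹, inv_mem he, ?_⟩
        have h1 := mem_Cz.1 (inv_mem hxe) x hx
        have h2 : x⁻¹⁻¹ * e⁻¹ = (x⁻¹ * e)⁻¹ := by
          calc x⁻¹⁻¹ * e⁻¹ = (x * (x⁻¹ * e)⁻¹) * x⁻¹ := by group
            _ = _ := by rw [h1]; group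
        rw [h2]
        exact inv_mem hxe }
  have hTn : layer G ⊓ Nz D ≤ Nz T := by
    refine le_Nz ?_
    rintro g hg x ⟨hx, e, he, hxe⟩
    refine ⟨conj_mem (hEL hg.1) hx, g * e * g⁻¹, mem_inf.2 ⟨conj_mem hg.2 he.1, hEn.conj_mem e he.2 g⟩, ?_⟩
    rw [show (g * x * g⁻¹)⁻¹ * (g * e * g⁻¹) = g * (x⁻¹ * e) * g⁻¹ by group]
    exact conj_mem (Nz_le_Nz_Cz L (hEL hg.1)) hxe
  have hlN : l ∈ Nz D := by
    refine h.ti.cent_le hd.1 hd1 (mem_C1.2 ?_)
    have h1 := mem_Cz.1 hc l hl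
    calc d * l = l * ((l⁻¹ * d) * l) := by group
      _ = l * d := by rw [← h1]; group
  have hTL : T ⊓ Nz D ≤ L := fun x hx => hx.1.1
  -- `T ∩ N` is nilpotent
  have hnil : Group.IsNilpotent ↥(T ⊓ Nz D) := by
    let f : ↥(T ⊓ Nz D) →* MulAut L := L.normalizerMonoidHom.comp (inclusion (hTL.trans le_normalizer))
    have hf : ∀ x : ↥(T ⊓ Nz D), f x = 1 ↔ (x : G) ∈ Cz L := by
      intro x
      constructor
      · intro hx
        refine mem_Cz.2 fun y hy => ?_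
        have h1 : (x : G) * y * (x : G)⁻¹ = y := congrArg (fun φ : MulAut L => ((φ ⟨y, hy⟩ : L) : G)) hx
        exact (mul_inv_eq_iff_eq_mul.1 h1).symm
      · intro hx
        refine MulEquiv.ext fun y => Subtype.ext ?_
        change (x : G) * y * (x : G)⁻¹ = y
        rw [← mem_Cz.1 hx y y.2, mul_inv_cancel_right]
    have h1 : IsPGroup p f.range := by
      rintro ⟨_, x, rfl⟩
      obtain ⟨hx, e, he, hxe⟩ := x.2.1
      obtain ⟨i, hi⟩ := pow_eq_one_of_mem h.pgrp he.1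
      refine ⟨i, Subtype.ext ?_⟩
      change f x ^ p ^ i = 1
      rw [← map_pow, hf]
      have h2 : Commute (x : G) ((x : G)⁻¹ * e) := mem_Cz.1 hxe x hx
      have h3 : (x : G) ^ p ^ i * ((x : G)⁻¹ * e) ^ p ^ i = 1 := by rw [← h2.mul_pow, mul_inv_cancel_left, hi]
      change (x : G) ^ p ^ i ∈ Cz L
      rw [eq_inv_of_mul_eq_one_left h3]
      exact inv_mem (pow_mem hxe _)
    have := h1.isNilpotent
    refine Subgroup.isNilpotent_of_ker_le_center f.rangeRestrict ?_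
    intro x hx
    have h2 : f x = 1 := congrArg Subtype.val hx
    exact mem_center_iff.2 fun y => Subtype.ext (mem_Cz.1 ((hf x).1 h2) y (hTL y.2))
  have hlT : l ∈ T ⊓ Nz D := ⟨⟨hl, d, hd, hc⟩, hlN⟩
  have h1 : (⟨l, hlT⟩ : ↥(T ⊓ Nz D)) ∈ pCore p ↥(T ⊓ Nz D) :=
    Lib.GenFitting.mem_pCore_of_mem_nilpotent_normal (N := ⊤) inferInstance (Group.isNilpotent_top.2 hnil) (mem_top _)
      (k := j) (Subtype.ext hj)
  have hch := Lib.Cores.pCore_characteristic (G := ↥(T ⊓ Nz D)) p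
  have h2 : (pCore p ↥(T ⊓ Nz D)).map (T ⊓ Nz D).subtype ≤ D :=
    h.le_of_normal (K := layer G ⊓ Nz D) (le_Nz_inf (le_Nz_normal _ _) le_normalizer)
      ((map_subtype_le _).trans (le_inf (hTL.trans (component_le_layer hL)) inf_le_right))
      ((le_Nz_inf hTn (inf_le_right.trans le_normalizer)).trans (Nz_le_Nz_char _)) ((Lib.Cores.pCore_isPGroup p).map _)
  have h3 : l ∈ D ⊓ L := ⟨h2 ⟨_, h1, rfl⟩, hl⟩
  rw [h0 L hL, mem_bot] at h3
  rw [h3, inv_one, one_mul] at hc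
  exact hdL hc

theorem conj_mem_Cz (hL : IsComponent L) {g l : G} (hg : g ∉ Nz L) (hl : l ∈ L) : g * l * g⁻¹ ∈ Cz L := by
  have h1 : cj g L ≠ L := fun h => hg (mem_normalizer_iff_map_conj_eq.2 h)
  exact component_le_centralizer_of_ne (isComponent_conj g hL) hL h1 ⟨l, hl, rfl⟩

section caseA

variable (h : Loc p D) (h0 : D ⊓ layer G = ⊥)
include h h0

theorem cent_A : layer G ⊓ Nz D ≤ Cz D := by
  have hEn := layer_normal G
  intro y hy
  refine mem_Cz.2 fun d hd => ?_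
  have h4 : d * y * d⁻¹ * y⁻¹ ∈ D ⊓ layer G := by
    refine mem_inf.2 ⟨?_, mul_mem (hEn.conj_mem y hy.1 d) ((layer G).inv_mem hy.1)⟩
    rw [show d * y * d⁻¹ * y⁻¹ = d * (y * d⁻¹ * y⁻¹) by group]
    exact mul_mem hd (conj_mem hy.2 (inv_mem hd))
  rw [h0, mem_bot] at h4
  calc d * y = (d * y * d⁻¹ * y⁻¹) * (y * d) := by group
    _ = y * d := by rw [h4, one_mul]

/-- `V` normalizes a component which is not centralized by `D` -/
theorem norm_A (hL : IsComponent L) (hDL : ¬ L ≤ Cz D) {V : Subgroup G} (hVD : V ≤ D) (hV : IsElementaryAbelian p V)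
    (hc : Nat.card V = p ^ 2) : V ≤ Nz L := by
  have hEn := layer_normal G
  intro v hv
  by_contra hvL
  have hv1 : v ≠ 1 := by
    rintro rfl
    exact hvL (one_mem _)
  have hvo := el_order hV hv hv1
  have hpow : ∀ j, 0 < j → j < p → v ^ j ∉ Nz L := by
    intro j h1 h2 h3
    have h4 : j.Coprime (orderOf v) := by
      rw [hvo]
      exact ((Nat.Prime.coprime_iff_not_dvd hp.out).2 (Nat.not_dvd_of_pos_of_lt h1 h2)).symm
    obtain ⟨b, hb⟩ := exists_pow_eq_self_of_coprime h4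
    exact hvL (hb ▸ pow_mem h3 b)
  have hstep : ∀ (l : G) (j : ℕ), (l * v) ^ (j + 1) * (v ^ (j + 1))⁻¹ = (l * v) ^ j * (v ^ j)⁻¹ * (v ^ j * l * (v ^ j)⁻¹) := by
    intro l j
    rw [pow_succ, pow_succ]
    group
  have ha : ∀ l ∈ L, ∀ j, j < p → l⁻¹ * ((l * v) ^ (j + 1) * (v ^ (j + 1))⁻¹) ∈ Cz L := by
    intro l hl j
    induction j with
    | zero =>
      intro _
      rw [show l⁻¹ * ((l * v) ^ (0 + 1) * (v ^ (0 + 1))⁻¹) = 1 by group]
      exact one_mem _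
    | succ j ih =>
      intro hj
      rw [hstep, ← mul_assoc]
      exact mul_mem (ih (by omega)) (conj_mem_Cz hL (hpow _ (by omega) hj) hl)
  have hE : ∀ l ∈ L, ∀ j, (l * v) ^ j * (v ^ j)⁻¹ ∈ layer G := by
    intro l hl j
    induction j with
    | zero => rw [pow_zero, pow_zero, inv_one, mul_one]; exact one_mem _
    | succ j ih =>
      rw [hstep]
      exact mul_mem ih (hEn.conj_mem l (component_le_layer hL hl) _)
  have hvp : v ^ p = 1 := hV.2 v hv
  have hp1 : p - 1 + 1 = p := Nat.sub_add_cancel hp.out.one_le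
  have ha' : ∀ l ∈ L, l⁻¹ * (l * v) ^ p ∈ Cz L := by
    intro l hl
    have h1 := ha l hl (p - 1) (by have := hp.out.pos; omega)
    rwa [hp1, hvp, inv_one, mul_one] at h1
  have hδ : ∀ l ∈ L, (l * v) ^ p ∈ Cz D := by
    intro l hl
    have h1 := hE l hl p
    rw [hvp, inv_one, mul_one] at h1
    refine cent_A h h0 ⟨h1, h.ti.cent_le (hVD hv) hv1 (mem_C1.2 ?_)⟩
    have h2 : Commute l (l⁻¹ * (l * v) ^ p) := mem_Cz.1 (ha' l hl) l hl
    have h3 : Commute l ((l * v) ^ p) := by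
      have h4 := (Commute.refl l).mul_right h2
      rwa [mul_inv_cancel_left] at h4
    have h4 : Commute (l * v) ((l * v) ^ p) := (Commute.refl _).pow_right _
    have h5 := h3.inv_left.mul_left h4
    rwa [inv_mul_cancel_left] at h5
  by_cases hU : ∃ u ∈ V, u ≠ 1 ∧ u ∈ Nz L
  · obtain ⟨u, hu, hu1, huL⟩ := hU
    apply hDL
    refine le_trans (le_inf (component_le_layer hL) ?_) (cent_A h h0)
    refine le_trans ?_ (h.ti.cent_le (hVD hu) hu1)
    have h1 : ⁅⁅zpowers u, L⁆, L⁆ = ⊥ := by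
      rw [commutator_eq_bot_iff_le_centralizer, commutator_le]
      intro w hw l hl
      have hwV : w ∈ V := zpowers_le.2 hu hw
      have hwL : w ∈ Nz L := zpowers_le.2 huL hw
      have h2 := mem_Cz.1 (hδ l⁻¹ (inv_mem hl)) w (hVD hwV)
      have h3 := ha' l⁻¹ (inv_mem hl)
      have h4 := conj_mem (Nz_le_Nz_Cz L hwL) h3
      have h5 := mul_mem h4 (inv_mem h3)
      rw [commutatorElement_def]
      have h6 : w * (l⁻¹⁻¹ * (l⁻¹ * v) ^ p) * w⁻¹ * (l⁻¹⁻¹ * (l⁻¹ * v) ^ p)⁻¹ = w * l * w⁻¹ * l⁻¹ := by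
        generalize (l⁻¹ * v) ^ p = δ at h2
        calc w * (l⁻¹⁻¹ * δ) * w⁻¹ * (l⁻¹⁻¹ * δ)⁻¹ = w * l * w⁻¹ * (w * δ) * w⁻¹ * δ⁻¹ * l⁻¹ := by group
          _ = w * l * w⁻¹ * l⁻¹ := by rw [h2]; group
      rwa [h6] at h5
    have h2 := commutator_eq_bot_of_commutator_commutator_eq_bot hL.2.1 h1
    rw [commutator_eq_bot_iff_le_centralizer] at h2
    exact (le_Cz_comm h2).trans (Cz_le_C1 (mem_zpowers u))
  · push Not at hU
    obtain ⟨w, hw, hwv⟩ := el_exists_not_mem hV hc v hv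
    have hb : ∀ l ∈ L, ∀ j, w * ((l * v) ^ j * (v ^ j)⁻¹) * w⁻¹ ∈ Cz L := by
      intro l hl j
      induction j with
      | zero => rw [pow_zero, pow_zero, inv_one, mul_one, mul_one, mul_inv_cancel]; exact one_mem _
      | succ j ih =>
        rw [hstep]
        have h1 : w * v ^ j ≠ 1 := by
          intro h1
          apply hwv
          rw [eq_inv_of_mul_eq_one_left h1]
          exact inv_mem (pow_mem (mem_zpowers v) j)
        have h2 := conj_mem_Cz hL (hU _ (mul_mem hw (pow_mem hv j)) h1) hl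
        have h3 := mul_mem ih h2
        rwa [show w * ((l * v) ^ j * (v ^ j)⁻¹) * w⁻¹ * (w * v ^ j * l * (w * v ^ j)⁻¹) =
          w * ((l * v) ^ j * (v ^ j)⁻¹ * (v ^ j * l * (v ^ j)⁻¹)) * w⁻¹ by group] at h3
    refine quasisimple_not_isMulCommutative hL.2 ⟨⟨fun a b => Subtype.ext ?_⟩⟩
    have h1 := hb b b.2 p
    rw [hvp, inv_one, mul_one, mem_Cz.1 (hδ b b.2) w (hVD hw), mul_inv_cancel_right] at h1
    have h2 := mul_mem h1 (inv_mem (ha' b b.2))
    rw [show ((b : G) * v) ^ p * ((b : G)⁻¹ * ((b : G) * v) ^ p)⁻¹ = b by group] at h2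
    exact mem_Cz.1 h2 a a.2

/-- `O_p(C_L(D)) ≤ D` -/
theorem core_A (hL : IsComponent L) {Q : Subgroup G} (hQ : IsPGroup p Q) (h1 : Q ≤ L ⊓ Cz D) (hn : L ⊓ Cz D ≤ Nz Q) :
    Q = ⊥ := by
  have hEn := layer_normal G
  rw [eq_bot_iff, ← h0]
  refine le_inf ?_ (h1.trans (inf_le_left.trans (component_le_layer hL)))
  refine le_of_normal_two h (K := layer G ⊓ Cz D) (le_Nz_inf (le_Nz_normal _ _) (Nz_le_Nz_Cz D))
    (inf_le_inf_right _ (component_le_layer hL)) ?_ h1 hn hQ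
  exact le_Nz_inf (inf_le_left.trans (layer_le_normalizer_component hL)) (inf_le_right.trans le_normalizer)

end caseA

/-- **Struct** -/
theorem struct : Struct.{u} := by
  intro hK p hp G _ _ D hO h
  by_contra hcon
  push Not at hcon
  have h0 := inf_layer hO h hcon
  obtain ⟨V, hVD, hV, hc⟩ := h.rk
  obtain ⟨v0, hv0, hv01⟩ := V.bot_or_exists_ne_one.resolve_left (el_ne_bot hc)
  obtain ⟨L, hL, hvL⟩ := exists_comp hO h (hVD hv0) hv01
  have hDL : ¬ L ≤ Cz D := fun h1 => hvL (le_Cz_comm h1 (hVD hv0))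
  have hVL := norm_A h h0 hL hDL hVD hV hc
  have hLE := component_le_layer hL
  have hcen : ∀ l ∈ L, l ∈ Nz D → l ∈ Cz D := fun l hl hl' => cent_A h h0 ⟨hLE hl, hl'⟩
  have hVp : IsPGroup p V := h.pgrp.to_le hVD
  have hVc : V ≤ Cz V := fun a ha => mem_Cz.2 fun b hb => el_comm hV hb ha
  -- the group `H = L V`
  set H : Subgroup G := L ⊔ V with hH
  have hHL : H ≤ Nz L := sup_le le_normalizer hVL
  have hdec : ∀ x ∈ H, ∃ l ∈ L, ∃ w ∈ V, x = l * w := by
    intro x hx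
    have h1 := Subgroup.coe_mul_of_right_le_normalizer_left L V hVL
    have h2 : x ∈ ((L : Set G) * (V : Set G)) := by rw [← h1]; exact hx
    obtain ⟨l, hl, w, hw, rfl⟩ := h2
    exact ⟨l, hl, w, hw, rfl⟩
  have hLn : (L.subgroupOf H).Normal := normal_subgroupOf_of_le_normalizer hHL
  have hLc : IsComponent (L.subgroupOf H) := isComponent_subgroupOf le_sup_left hL
  -- an element of `V` inducing an inner automorphism is trivial
  have hinn : ∀ w ∈ V, w ∈ LC L → w = 1 := by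
    intro w hw hwL
    by_contra hw1
    obtain ⟨l, hl, ⟨j, hj⟩, hlc⟩ := exists_pelt (k := 1) (by rw [pow_one]; exact hV.2 w hw) hwL
    have h1 : ∀ y ∈ L, w * y = y * w ↔ l * y = y * l := by
      intro y hy
      have h2 := mem_Cz.1 hlc y hy
      have h3 : w * y = l * y * (l⁻¹ * w) := by rw [mul_assoc l y, h2]; group
      rw [h3, show y * w = y * l * (l⁻¹ * w) by group, mul_left_inj]
    have h2 : l ∈ L ⊓ Cz D := ⟨hl, hcen l hl (h.ti.cent_le (hVD hw) hw1 (mem_C1.2 ((h1 l hl).2 rfl)))⟩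
    have h3 : zpowers l = ⊥ := by
      refine core_A h h0 hL ?_ (zpowers_le.2 h2) ?_
      · obtain ⟨i, -, hi⟩ := (Nat.dvd_prime_pow hp.out).1 (orderOf_dvd_of_pow_eq_one hj)
        exact IsPGroup.of_card (by rw [Nat.card_zpowers, hi])
      · refine le_trans (le_Cz_comm (zpowers_le.2 (mem_Cz.2 fun y hy => ?_))) (centralizer_le_normalizer _)
        exact ((h1 y hy.1).1 (mem_Cz.1 hy.2 w (hVD hw))).symm
    rw [zpowers_eq_bot] at h3
    rw [h3, inv_one, one_mul] at hlc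
    exact hDL fun y hy => hcen y hy (h.ti.cent_le (hVD hw) hw1 (mem_C1.2 (mem_Cz.1 hlc y hy).symm))
  have hCL : ∀ x : H, x ∈ Cz (L.subgroupOf H) ↔ (x : G) ∈ Cz L := by
    intro x
    constructor
    · intro hx
      exact mem_Cz.2 fun y hy => congrArg Subtype.val (mem_Cz.1 hx ⟨y, mem_sup_left hy⟩ hy)
    · intro hx
      exact mem_Cz.2 fun y hy => Subtype.ext (mem_Cz.1 hx y hy)
  have hker : ∀ x : H, x ∈ Cz (L.subgroupOf H) → (x : G) ∈ L ⊓ Cz L := by
    intro x hx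
    have h1 := (hCL x).1 hx
    obtain ⟨l, hl, w, hw, hxe⟩ := hdec x x.2
    have h2 : w = 1 := hinn w hw ⟨l⁻¹, inv_mem hl, by rw [inv_inv, ← hxe]; exact h1⟩
    rw [h2, mul_one] at hxe
    exact ⟨hxe ▸ hl, h1⟩
  have hZ := center_not_dvd hO hL
  have hZV : L ⊓ Cz L ≤ Cz V :=
    h.ti.cent_of_coprime h.pgrp hVD (rk2_self hV hc) hZ (le_Nz_inf hVL (hVL.trans (Nz_le_Nz_Cz L)))
  have hCn : (Cz (L.subgroupOf H)).Normal := normal_centralizer
  have hCQ : Box.CQ p (QuotientGroup.mk' (Cz (L.subgroupOf H))) := by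
    refine ⟨QuotientGroup.mk'_surjective _, ?_, ?_⟩
    · rw [QuotientGroup.ker_mk']
      intro x hx
      have h1 := hker x hx
      refine mem_center_iff.2 fun y => Subtype.ext ?_
      have h2 : H ≤ C1 (x : G) :=
        sup_le (fun l hl => mem_C1.2 (mem_Cz.1 h1.2 l hl).symm) (fun w hw => mem_C1.2 (mem_Cz.1 (hZV h1) w hw).symm)
      exact (mem_C1.1 (h2 y.2)).symm
    · rw [QuotientGroup.ker_mk']
      refine Nat.Coprime.coprime_dvd_left ?_ ((Nat.Prime.coprime_iff_not_dvd hp.out).2 hZ).symm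
      rw [← card_map_of_injective (K := Cz (L.subgroupOf H)) H.subtype_injective]
      refine card_dvd_of_le ?_
      rintro _ ⟨x, hx, rfl⟩
      exact hker x hx
  -- `V` is a radical TI subgroup of `H`
  have hVp' : IsPGroup p (V.subgroupOf H) := hVp.comap_subtype
  have hNV : ∀ x : H, (x : G) ∈ Cz V → x ∈ Nz (V.subgroupOf H) := by
    intro x hx
    refine centralizer_le_normalizer _ (mem_Cz.2 fun y hy => Subtype.ext (mem_Cz.1 hx y hy))
  have hTI : TI (V.subgroupOf H) := by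
    refine ti_of_mem fun x g hx hx1 hg => ?_
    obtain ⟨l, hl, w, hw, hge⟩ := hdec g g.2
    have h1 : (g : G)⁻¹ * x * g ∈ V := hg
    have h2 : l⁻¹ * x * l ∈ V := by
      have h3 := mul_mem (mul_mem hw h1) (inv_mem hw)
      rwa [hge, show w * ((l * w)⁻¹ * (x : G) * (l * w)) * w⁻¹ = l⁻¹ * x * l by group] at h3
    have h3 := hcen l hl (h.ti.mem (hVD hx) (fun h4 => hx1 (Subtype.ext h4)) (hVD h2))
    apply hNV
    rw [hge]
    exact mul_mem (centralizer_le hVD h3) (hVc hw)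
  have hrk : Rk2 p (V.subgroupOf H) := Red.rk2_of_equiv (subgroupOfEquivOfLe le_sup_right).symm (rk2_self hV hc)
  have hrad : Rad p (V.subgroupOf H) := by
    intro Q hQ hn
    have hR : IsPGroup p ↥(V.subgroupOf H ⊔ Q) := hVp'.to_sup_of_normal_right' hQ (le_normalizer.trans hn)
    have hRn : Nz (V.subgroupOf H) ≤ Nz (V.subgroupOf H ⊔ Q) := by
      refine le_Nz fun g hg x hx => ?_
      have h3 : cj g (V.subgroupOf H ⊔ Q) ≤ V.subgroupOf H ⊔ Q := by
        rw [cj, Subgroup.map_sup]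
        refine sup_le_sup ?_ ?_
        · rintro _ ⟨y, hy, rfl⟩
          exact conj_mem hg hy
        · rintro _ ⟨y, hy, rfl⟩
          exact conj_mem (hn hg) hy
      exact h3 ⟨x, hx, rfl⟩
    have h1 : ((V.subgroupOf H ⊔ Q).map H.subtype) ⊓ (L ⊓ Cz D) = ⊥ := by
      refine core_A h h0 hL ((hR.map _).to_le inf_le_left) inf_le_right (le_Nz_inf (le_Nz ?_) le_normalizer)
      rintro g hg _ ⟨y, hy, rfl⟩
      exact ⟨_, conj_mem (hRn (hNV ⟨g, mem_sup_left hg.1⟩ (centralizer_le hVD hg.2))) hy, rfl⟩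
    have h3 := Blocks.SylowIn.eq_of_normalizer_inf_le hR le_sup_left fun x hx => by
      obtain ⟨l, hl, w, hw, hxe⟩ := hdec x x.2
      have h4 : (⟨w, mem_sup_right hw⟩ : H) ∈ V.subgroupOf H := hw
      have h5 : ((x * (⟨w, mem_sup_right hw⟩ : H)⁻¹ : H) : G) = l := by
        change (x : G) * w⁻¹ = l
        rw [hxe, mul_inv_cancel_right]
      have h6 : l ∈ Nz D := by
        have h7 := conj_mem (mul_mem (mem_inf.1 hx).1 (inv_mem (le_normalizer h4)))
          (show (⟨v0, mem_sup_right hv0⟩ : H) ∈ V.subgroupOf H from hv0)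
        refine h.ti.mem' (hVD hv0) hv01 (hVD ?_)
        rw [← h5]
        exact h7
      have h7 : l ∈ ((V.subgroupOf H ⊔ Q).map H.subtype) ⊓ (L ⊓ Cz D) :=
        ⟨⟨_, mul_mem (mem_inf.1 hx).2 (inv_mem (mem_sup_left h4)), h5⟩, hl, hcen l hl h6⟩
      rw [h1, mem_bot] at h7
      rw [h7, one_mul] at hxe
      change (x : G) ∈ V
      rw [hxe]
      exact hw
    exact le_sup_right.trans h3.le
  have hAS : AS p ((L.subgroupOf H).map (QuotientGroup.mk' (Cz (L.subgroupOf H))))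
      ((V.subgroupOf H).map (QuotientGroup.mk' (Cz (L.subgroupOf H)))) :=
    ⟨Red.soc_quot hLc, hVp'.map _, hCQ.ti hVp' hTI, hCQ.rk2 hVp' hrk, hCQ.rad hVp' hrad⟩
  apply (hK p _ _ _ hAS trivial).1
  rw [eq_bot_iff]
  rintro _ ⟨⟨w, hw, rfl⟩, l, hl, hlw⟩
  have h1 : l⁻¹ * w ∈ Cz (L.subgroupOf H) := QuotientGroup.eq.1 hlw
  have h2 : (w : G) = 1 := hinn w hw ⟨l, hl, (hCL _).1 h1⟩
  rw [show w = 1 from Subtype.ext h2, map_one]
  exact one_mem _

end Cfsg.Agent.TID.G
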